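import Mathlib.RingTheory.Algebraic.Integral
import Mathlib.Algebra.Polynomial.Lifts
import Mathlib.RingTheory.MvPolynomial.Basic
import Mathlib.RingTheory.AlgebraicIndependent.TranscendenceBasis

/-!
Elements algebraic over the image of a ring map into a domain, and the substitution
`x ↦ a ^ n + b` which keeps algebraicity for large `n`.
-/

set_option autoImplicit false
universe u

open Polynomial

namespace Groth.Agent.H7Lim.Perturb

variable {A B L L' : Type u} [CommRing A] [CommRing B] [CommRing L] [IsDomain L] [CommRing L']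

/-- `y` is a root of a nonzero polynomial with coefficients in the image of `ψ`. -/
def AlgElem (ψ : A →+* L) (y : L) : Prop :=
  ∃ Q : L[X], Q ∈ Polynomial.lifts ψ ∧ Q ≠ 0 ∧ Q.eval y = 0

theorem algElem_iff_exists (ψ : A →+* L) (y : L) :
    AlgElem ψ y ↔ ∃ P : A[X], P.eval₂ ψ y = 0 ∧ ∃ i, ψ (P.coeff i) ≠ 0 := by
  constructor
  · rintro ⟨Q, hQ, hne, h0⟩
    obtain ⟨P, rfl⟩ := (Polynomial.mem_lifts Q).mp hQ
    refine ⟨P, by rwa [eval_map] at h0, ?_⟩
    by_contra! hall
    exact hne (Polynomial.ext fun i => by simp [coeff_map, hall i])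
  · rintro ⟨P, h0, i, hi⟩
    exact ⟨P.map ψ, (Polynomial.mem_lifts _).mpr ⟨P, rfl⟩,
      fun h => hi (by simpa [coeff_map] using congrArg (fun Q => Q.coeff i) h),
      by rwa [eval_map]⟩

theorem AlgElem.mono {ψ : A →+* L} {φ : B →+* L} {y : L} (hy : AlgElem ψ y)
    (h : ψ.range ≤ φ.range) : AlgElem φ y := by
  obtain ⟨Q, hQ, hne, h0⟩ := hy
  refine ⟨Q, (lifts_iff_coeff_lifts Q).mpr fun i => ?_, hne, h0⟩
  exact RingHom.coe_range φ ▸ h ((lifts_iff_coeff_lifts Q).mp hQ i)

theorem algElem_iff_isAlgebraic [Algebra B L] [FaithfulSMul B L] (y : L) :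
    AlgElem (algebraMap B L) y ↔ IsAlgebraic B y := by
  have hinj := FaithfulSMul.algebraMap_injective B L
  rw [algElem_iff_exists]
  constructor
  · rintro ⟨P, h0, i, hi⟩
    exact ⟨P, fun h => hi (by simp [h]), by rwa [aeval_def]⟩
  · rintro ⟨P, hne, h0⟩
    obtain ⟨i, hi⟩ : ∃ i, P.coeff i ≠ 0 := by
      by_contra! hall
      exact hne (Polynomial.ext fun i => by simp [hall i])
    exact ⟨P, by rwa [← aeval_def], i, (map_ne_zero_iff _ hinj).mpr hi⟩

theorem algElem_range (ψ : A →+* L) (y : L) :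
    AlgElem ψ y ↔ IsAlgebraic ψ.range y := by
  rw [← algElem_iff_isAlgebraic (B := ψ.range) (L := L)]
  have h : (algebraMap ψ.range L).range = ψ.range := by
    ext z
    exact ⟨fun ⟨w, hw⟩ => hw ▸ w.2, fun hz => ⟨⟨z, hz⟩, rfl⟩⟩
  exact ⟨fun hy => hy.mono h.ge, fun hy => hy.mono h.le⟩

/-- The elements algebraic over the image of `ψ`. -/
noncomputable def algCl (ψ : A →+* L) : Subalgebra ψ.range L :=
  Subalgebra.algebraicClosure ψ.range L

theorem mem_algCl (ψ : A →+* L) (y : L) : y ∈ algCl ψ ↔ AlgElem ψ y :=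
  (Subalgebra.mem_algebraicClosure (R := ψ.range) (S := L)).trans (algElem_range ψ y).symm

theorem algElem_map (ψ : A →+* L) (a : A) : AlgElem ψ (ψ a) :=
  (algElem_range ψ _).mpr (isAlgebraic_algebraMap (⟨ψ a, a, rfl⟩ : ψ.range))

theorem AlgElem.trans {ψ : A →+* L} {φ : B →+* L} {y : L} (hy : AlgElem φ y)
    (h : ∀ b, AlgElem ψ (φ b)) : AlgElem ψ y := by
  haveI : Algebra.IsAlgebraic ψ.range (algCl ψ) := ⟨fun z =>
    (isAlgebraic_algHom_iff (algCl ψ).val Subtype.val_injective).mp
      ((algElem_range ψ _).mp ((mem_algCl ψ _).mp z.2))⟩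
  have h1 : AlgElem (algebraMap (algCl ψ) L) y := hy.mono (by
    rintro z ⟨b, rfl⟩
    exact ⟨⟨φ b, (mem_algCl ψ _).mpr (h b)⟩, rfl⟩)
  exact (algElem_range ψ y).mpr (((algElem_iff_isAlgebraic y).mp h1).restrictScalars _)

theorem forall_algElem_eval₂Hom {σ : Type} (ψ : A →+* L) (f : B →+* L) (T : σ → L)
    (hf : ∀ b, AlgElem ψ (f b)) (hT : ∀ j, AlgElem ψ (T j)) (P : MvPolynomial σ B) :
    AlgElem ψ (MvPolynomial.eval₂Hom f T P) := by
  induction P using MvPolynomial.induction_on with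
  | C b => simpa using hf b
  | add p q hp hq =>
    rw [map_add, ← mem_algCl]
    exact add_mem ((mem_algCl ψ _).mpr hp) ((mem_algCl ψ _).mpr hq)
  | mul_X p j hp =>
    rw [map_mul, MvPolynomial.eval₂Hom_X', ← mem_algCl]
    exact mul_mem ((mem_algCl ψ _).mpr hp) ((mem_algCl ψ _).mpr (hT j))

theorem forall_algElem_eval₂RingHom (ψ : A →+* L) (f : B →+* L) (x : L)
    (hf : ∀ b, AlgElem ψ (f b)) (hx : AlgElem ψ x) (P : B[X]) :
    AlgElem ψ (eval₂RingHom f x P) := by
  induction P using Polynomial.induction_on' with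
  | add p q hp hq =>
    rw [map_add, ← mem_algCl]
    exact add_mem ((mem_algCl ψ _).mpr hp) ((mem_algCl ψ _).mpr hq)
  | monomial k b =>
    rw [coe_eval₂RingHom, eval₂_monomial, ← mem_algCl]
    exact mul_mem ((mem_algCl ψ _).mpr (hf b)) (pow_mem ((mem_algCl ψ _).mpr hx) k)

theorem AlgElem.of_map [IsDomain L'] {ψ : A →+* L} {y : L} (j : L →+* L')
    (hy : AlgElem (j.comp ψ) (j y)) (hj : Function.Injective j) : AlgElem ψ y := by
  rw [algElem_iff_exists] at hy ⊢
  obtain ⟨P, h0, i, hi⟩ := hy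
  refine ⟨P, hj ?_, i, fun h => hi ?_⟩
  · rw [hom_eval₂, h0, map_zero]
  · rw [RingHom.comp_apply, h, map_zero]

/-- A polynomial in two variables with small `X`-degree does not vanish on substituting
`Y = c - X ^ n`. -/
theorem eval_sub_pow_ne_zero {K : Type u} [CommRing K] [IsDomain K] (P : K[X][X]) (hP : P ≠ 0)
    (n : ℕ) (hn : ∀ i, (P.coeff i).natDegree < n) (c : K) : P.eval (C c - X ^ n) ≠ 0 := by
  set e := P.natDegree
  set u : K[X] := C c - X ^ n with hu
  have hn0 : 0 < n := lt_of_le_of_lt (Nat.zero_le _) (hn 0)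
  have hud : u.natDegree = n := by
    rw [hu, ← neg_sub, natDegree_neg, natDegree_X_pow_sub_C]
  have hu0 : u ≠ 0 := fun h => by simp [h] at hud; omega
  have hlc : P.coeff e ≠ 0 := by simpa [e] using hP
  have htop : (P.coeff e * u ^ e).natDegree = (P.coeff e).natDegree + n * e := by
    rw [natDegree_mul hlc (pow_ne_zero _ hu0), natDegree_pow, hud, Nat.mul_comm]
  rw [eval_eq_sum_range, Finset.sum_range_succ]
  intro h0
  have hrest : ∀ i ∈ Finset.range e, (P.coeff i * u ^ i).natDegree < n * e := fun i hi => by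
    have := natDegree_mul_le (p := P.coeff i) (q := u ^ i)
    rw [natDegree_pow, hud] at this
    have h1 := hn i
    have h2 : n * (i + 1) ≤ n * e := Nat.mul_le_mul_left _ (Finset.mem_range.mp hi)
    rw [Nat.mul_add, Nat.mul_comm n i] at h2
    omega
  rcases Nat.eq_zero_or_pos e with he | he
  · have he' : P.natDegree = 0 := he
    rw [he', Finset.range_zero, Finset.sum_empty, zero_add, pow_zero, mul_one] at h0
    exact hlc (by simpa [e, he'] using h0)
  · have hs : (∑ i ∈ Finset.range e, P.coeff i * u ^ i).natDegree < n * e := by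
      refine lt_of_le_of_lt (natDegree_sum_le_of_forall_le (n := n * e - 1) _ _ fun i hi => ?_) ?_
      · have := hrest i hi; omega
      · have : 0 < n * e := Nat.mul_pos hn0 he
        omega
    rw [add_eq_zero_iff_eq_neg] at h0
    rw [h0, natDegree_neg, htop] at hs
    omega

/-- If `b` is algebraic over `h(A)[a]` by a relation of `a`-degree `< n`, then `a` is algebraic
over `h(A)[a ^ n + b]`. -/
theorem algElem_of_pow_add (h : A →+* L) (a b : L) (P : A[X][X])
    (h0 : P.eval₂ (eval₂RingHom h a) b = 0) (i : ℕ) (hi : (P.coeff i).eval₂ h a ≠ 0)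
    (n : ℕ) (hn : ∀ j, (P.coeff j).natDegree < n) :
    AlgElem (eval₂RingHom h (a ^ n + b)) a := by
  set c := a ^ n + b
  set h' := eval₂RingHom h c
  set Pm : L[X][X] := P.map (mapRingHom h) with hPm
  have hne : Pm ≠ 0 := fun e => hi (by
    have := congrArg (fun Q => Q.coeff i) e
    simp only [hPm, coeff_map, coe_mapRingHom, coeff_zero] at this
    rw [← eval_map, this, eval_zero])
  have hdeg : ∀ j, (Pm.coeff j).natDegree < n := fun j => by
    rw [hPm, coeff_map]
    exact lt_of_le_of_lt natDegree_map_le (hn j)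
  refine ⟨Pm.eval (C c - X ^ n), ?_, eval_sub_pow_ne_zero Pm hne n hdeg c, ?_⟩
  · refine (Polynomial.mem_lifts _).mpr ⟨P.eval₂ (mapRingHom C) (C X - X ^ n), ?_⟩
    rw [← coe_mapRingHom, hom_eval₂, hPm, eval_map]
    congr 1
    · ext x <;> simp [h']
    · simp [h']
  · rw [← coe_evalRingHom, coe_evalRingHom, ← coe_evalRingHom a, hPm, eval_map, hom_eval₂]
    have e1 : (evalRingHom a).comp (mapRingHom h) = eval₂RingHom h a := by ext x <;> simp
    rw [e1, coe_evalRingHom]
    simpa [c] using h0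

end Groth.Agent.H7Lim.Perturb
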