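import Groth.Agent.H7Lim.Perturb.Good
import Groth.Agent.H8Props.FieldDimRing

/-!
Fibre dimensions in terms of the predicate `Good`.
-/

set_option autoImplicit false
universe u

open scoped TensorProduct

namespace Groth.Agent.H7Lim.Perturb

/-- Pull algebraicity over `e(K)[T]` back along an injective map, `K` the fractions of `A`. -/
theorem algElem_pullback {A K L L' : Type u} [CommRing A] [Field K] [CommRing L] [IsDomain L]
    [CommRing L'] [IsDomain L'] {d : ℕ} (φA : A →+* K)
    (hfrac : ∀ k, ∃ a c, φA c ≠ 0 ∧ k = φA a / φA c) (e : K →+* L') (T' : Fin d → L')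
    (ψ : MvPolynomial (Fin d) A →+* L) (j : L →+* L') (hj : Function.Injective j)
    (hC : ∀ a, j (ψ (MvPolynomial.C a)) = e (φA a))
    (hX : ∀ i, j (ψ (MvPolynomial.X i)) = T' i)
    (y : L) (ω : MvPolynomial (Fin d) K →+* L') (hω : AlgElem ω (j y))
    (hωC : ∀ k, ω (MvPolynomial.C k) = e k) (hωX : ∀ i, ω (MvPolynomial.X i) = T' i) :
    AlgElem ψ y := by
  refine AlgElem.of_map j (hω.trans fun b => ?_) hj
  rw [show ω = MvPolynomial.eval₂Hom e T' from
    MvPolynomial.ringHom_ext (by simp [hωC]) (by simp [hωX])]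
  refine forall_algElem_eval₂Hom _ _ _ (fun k => ?_) (fun i => ?_) b
  · obtain ⟨a, c, hc, rfl⟩ := hfrac k
    refine (algElem_iff_exists _ _).mpr
      ⟨Polynomial.C (MvPolynomial.C c) * Polynomial.X - Polynomial.C (MvPolynomial.C a), ?_, 1, ?_⟩
    · rw [Polynomial.eval₂_sub, Polynomial.eval₂_mul, Polynomial.eval₂_C, Polynomial.eval₂_C,
        Polynomial.eval₂_X, RingHom.comp_apply, RingHom.comp_apply, hC, hC, ← map_mul,
        mul_div_cancel₀ _ hc, sub_self]
    · simp only [Polynomial.coeff_sub, Polynomial.coeff_C_mul, Polynomial.coeff_X_one, mul_one,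
        Polynomial.coeff_C_ne_zero (one_ne_zero : (1 : ℕ) ≠ 0), sub_zero, RingHom.comp_apply]
      rw [hC]
      exact (map_ne_zero e).mpr hc
  · rw [← hX i]
    exact algElem_map (j.comp ψ) (MvPolynomial.X i)

variable {A S : Type u} [CommRing A] [CommRing S] [Algebra A S] (P : Ideal A) [P.IsPrime]

theorem residueField_eq_div (k : P.ResidueField) : ∃ a c, algebraMap A P.ResidueField c ≠ 0 ∧
    k = algebraMap A P.ResidueField a / algebraMap A P.ResidueField c := by
  obtain ⟨a, c, hc, rfl⟩ := IsFractionRing.div_surjective (A ⧸ P) k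
  obtain ⟨a, rfl⟩ := Ideal.Quotient.mk_surjective a
  obtain ⟨c, rfl⟩ := Ideal.Quotient.mk_surjective c
  refine ⟨a, c, fun h => nonZeroDivisors.ne_zero hc ?_, rfl⟩
  exact Ideal.Quotient.eq_zero_iff_mem.mpr (Ideal.algebraMap_residueField_eq_zero.mp h)

/-- The `κ(P)`-algebra map `κ(P)[T] → κ(P) ⊗ S`. -/
noncomputable def fibEval {d : ℕ} (T : Fin d → S) :
    MvPolynomial (Fin d) P.ResidueField →ₐ[P.ResidueField] P.Fiber S :=
  MvPolynomial.aeval fun j => (1 : P.ResidueField) ⊗ₜ[A] T j

theorem smul_one_tmul_eq (r : A) (x : P.Fiber S) :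
    r • x = algebraMap A P.ResidueField r • x :=
  (algebraMap_smul P.ResidueField r x).symm

/-- Dimension `≤ d` of the fibre gives `d` elements over which the fibre is integral. -/
theorem exists_fibEval_isIntegral [Algebra.FiniteType A S] (d : ℕ)
    (h : ringKrullDim (P.Fiber S) ≤ d) :
    ∃ T : Fin d → S, (fibEval P T).toRingHom.IsIntegral := by
  classical
  rcases subsingleton_or_nontrivial (P.Fiber S) with hF | hF
  · exact ⟨fun _ => 0, fun x => ⟨1, Polynomial.monic_one, Subsingleton.elim _ _⟩⟩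
  obtain ⟨s, g, hg, hfin⟩ := exists_finite_inj_algHom_of_fg P.ResidueField (P.Fiber S)
  have hsd : s ≤ d := by
    letI := g.toRingHom.toAlgebra
    haveI : Module.Finite (MvPolynomial (Fin s) P.ResidueField) (P.Fiber S) := hfin
    rw [(H05EGA4.dim_int (MvPolynomial (Fin s) P.ResidueField) (P.Fiber S)).2 hg,
      MvPolynomial.ringKrullDim_of_isNoetherianRing, ringKrullDim_eq_zero_of_field] at h
    simpa using h
  choose r hr t ht using fun j => Ideal.Fiber.exists_smul_eq_one_tmul P (g (MvPolynomial.X j))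
  let T : Fin d → S := fun j => if hj : (j : ℕ) < s then t ⟨j, hj⟩ else 0
  refine ⟨T, ?_⟩
  have hr0 : ∀ j, algebraMap A P.ResidueField (r j) ≠ 0 := fun j => by
    simpa using hr j
  let κ : MvPolynomial (Fin s) P.ResidueField →ₐ[P.ResidueField]
      MvPolynomial (Fin d) P.ResidueField :=
    MvPolynomial.aeval fun j => (algebraMap A P.ResidueField (r j))⁻¹ •
      MvPolynomial.X (Fin.castLE hsd j)
  have hκ : (fibEval P T).comp κ = g := MvPolynomial.algHom_ext fun j => by
    have hT : T (Fin.castLE hsd j) = t j := by simp [T]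
    rw [AlgHom.comp_apply, MvPolynomial.aeval_X, map_smul, fibEval, MvPolynomial.aeval_X, hT,
      ← ht j, smul_one_tmul_eq, smul_smul, inv_mul_cancel₀ (hr0 j), one_smul]
  have hi : ((fibEval P T).toRingHom.comp κ.toRingHom).IsIntegral := by
    have : ((fibEval P T).toRingHom.comp κ.toRingHom) = g.toRingHom := by
      rw [← hκ]; rfl
    rw [this]
    exact RingHom.Finite.to_isIntegral hfin
  exact RingHom.IsIntegral.tower_top _ _ hi

variable {P}

/-- The points of `S` over `P` are algebraic over a set of elements making the fibre integral. -/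
theorem algBy_of_fibEval {d : ℕ} (T : Fin d → S) (hT : (fibEval P T).toRingHom.IsIntegral)
    (q : PrimeSpectrum S) (hq : q.asIdeal.under A = P) : AlgBy (algebraMap A S) T q.asIdeal := by
  let q' : PrimeSpectrum.comap (algebraMap A S) ⁻¹' {(⟨P, inferInstance⟩ : PrimeSpectrum A)} :=
    ⟨q, PrimeSpectrum.ext hq⟩
  let Q : PrimeSpectrum (P.Fiber S) := PrimeSpectrum.preimageEquivFiber A S ⟨P, inferInstance⟩ q'
  let iR : S →+* P.Fiber S := (Algebra.TensorProduct.includeRight : S →ₐ[A] P.Fiber S).toRingHom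
  have hcomap : Q.asIdeal.comap iR = q.asIdeal :=
    congrArg (fun z => z.1.asIdeal)
      ((PrimeSpectrum.preimageEquivFiber A S ⟨P, inferInstance⟩).symm_apply_apply q')
  let j : S ⧸ q.asIdeal →+* P.Fiber S ⧸ Q.asIdeal := Ideal.quotientMap Q.asIdeal iR hcomap.ge
  have hj : Function.Injective j := Ideal.quotientMap_injective' hcomap.le
  have hjmk : ∀ x, j (Ideal.Quotient.mk _ x) = Ideal.Quotient.mk Q.asIdeal (iR x) := fun x => rfl
  intro y
  have hω : AlgElem ((Ideal.Quotient.mk Q.asIdeal).comp (fibEval P T).toRingHom) (j y) := by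
    obtain ⟨p, hp, h0⟩ := RingHom.IsIntegral.trans (fibEval P T).toRingHom
      (Ideal.Quotient.mk Q.asIdeal) hT
      (RingHom.isIntegral_of_surjective _ Ideal.Quotient.mk_surjective) (j y)
    exact (algElem_iff_exists _ _).mpr
      ⟨p, h0, p.natDegree, by rw [hp.coeff_natDegree, map_one]; exact one_ne_zero⟩
  refine algElem_pullback (L' := P.Fiber S ⧸ Q.asIdeal) (algebraMap A P.ResidueField)
    (residueField_eq_div P) ((Ideal.Quotient.mk Q.asIdeal).comp (algebraMap P.ResidueField (P.Fiber S)))
    (fun i => Ideal.Quotient.mk Q.asIdeal (iR (T i)))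
    (psi (algebraMap A S) T q.asIdeal) j hj ?_ (fun i => ?_) y _ hω ?_ (fun i => ?_)
  · intro x
    rw [psi, RingHom.comp_apply, MvPolynomial.eval₂Hom_C, hjmk, RingHom.comp_apply]
    congr 1
    show (1 : P.ResidueField) ⊗ₜ[A] algebraMap A S x =
      (algebraMap A P.ResidueField x) ⊗ₜ[A] (1 : S)
    rw [Algebra.algebraMap_eq_smul_one, Algebra.algebraMap_eq_smul_one, TensorProduct.smul_tmul]
  · rw [psi, RingHom.comp_apply, MvPolynomial.eval₂Hom_X', hjmk]
  · intro k
    rw [RingHom.comp_apply, RingHom.comp_apply, AlgHom.toRingHom_eq_coe, RingHom.coe_coe]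
    congr 1
    exact MvPolynomial.aeval_C _ _
  · rw [RingHom.comp_apply, AlgHom.toRingHom_eq_coe, RingHom.coe_coe]
    congr 1
    exact MvPolynomial.aeval_X _ _

theorem ringKrullDim_le_of_forall_quotient {F : Type u} [CommRing F] (d : WithBot ℕ∞)
    (h : ∀ Q : PrimeSpectrum F, ringKrullDim (F ⧸ Q.asIdeal) ≤ d) : ringKrullDim F ≤ d := by
  refine iSup_le fun l => le_trans ?_ (h l.head)
  rw [ringKrullDim_quotient]
  refine le_iSup_of_le
    ⟨l.length, fun i => ⟨l i, ?_⟩, fun i => l.step i⟩ le_rfl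
  show l.head.asIdeal ≤ (l i).asIdeal
  exact l.strictMono.monotone (Fin.zero_le i)

/-- If every point over `P` is good, the fibre has dimension at most `d`. -/
theorem dim_fiber_le_of_good [Algebra.FiniteType A S] (d : ℕ)
    (h : ∀ q : PrimeSpectrum S, q.asIdeal.under A = P → Good (algebraMap A S) d q) :
    ringKrullDim (P.Fiber S) ≤ d := by
  refine ringKrullDim_le_of_forall_quotient _ fun Q => ?_
  let iR : S →+* P.Fiber S := (Algebra.TensorProduct.includeRight : S →ₐ[A] P.Fiber S).toRingHom
  let q : PrimeSpectrum S := ⟨Q.asIdeal.comap iR, inferInstance⟩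
  have hq : q.asIdeal.under A = P :=
    congrArg PrimeSpectrum.asIdeal ((PrimeSpectrum.preimageEquivFiber A S ⟨P, inferInstance⟩).symm Q).2
  obtain ⟨T, hT⟩ := h q hq
  set L := P.Fiber S ⧸ Q.asIdeal
  let j : S ⧸ q.asIdeal →+* L := Ideal.quotientMap Q.asIdeal iR le_rfl
  have hj : Function.Injective j := Ideal.quotientMap_injective' le_rfl
  let T' : Fin d → L := fun i => Ideal.Quotient.mk Q.asIdeal (iR (T i))
  let B : Subalgebra P.ResidueField L := Algebra.adjoin P.ResidueField (Set.range T')
  have hB : ∀ x, AlgElem (algebraMap B L) x := by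
    intro x
    obtain ⟨x, rfl⟩ := Ideal.Quotient.mk_surjective x
    obtain ⟨r, hr, s, hs⟩ := Ideal.Fiber.exists_smul_eq_one_tmul P x
    have hr0 : algebraMap A P.ResidueField r ≠ 0 := by simpa using hr
    have hx : Ideal.Quotient.mk Q.asIdeal x =
        algebraMap P.ResidueField L (algebraMap A P.ResidueField r)⁻¹ *
          j (Ideal.Quotient.mk _ s) := by
      rw [← Algebra.smul_def]
      have : x = (algebraMap A P.ResidueField r)⁻¹ • iR s := by
        show x = (algebraMap A P.ResidueField r)⁻¹ • ((1 : P.ResidueField) ⊗ₜ[A] s)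
        rw [← hs, smul_one_tmul_eq, smul_smul, inv_mul_cancel₀ hr0, one_smul]
      conv_lhs => rw [this]
      exact Submodule.Quotient.mk_smul _ _ _
    rw [hx, ← mem_algCl]
    refine mul_mem ((mem_algCl _ _).mpr ?_) ((mem_algCl _ _).mpr ?_)
    · exact algElem_map (algebraMap B L) (algebraMap P.ResidueField B _)
    · obtain ⟨p, h0, i, hi⟩ := (algElem_iff_exists _ _).mp (hT (Ideal.Quotient.mk _ s))
      have h1 : AlgElem (j.comp (psi (algebraMap A S) T q.asIdeal)) (j (Ideal.Quotient.mk _ s)) :=
        (algElem_iff_exists _ _).mpr ⟨p, by rw [← Polynomial.hom_eval₂, h0, map_zero], i,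
          fun e => hi (hj (by rw [map_zero]; exact e))⟩
      refine h1.mono ?_
      rintro _ ⟨m, rfl⟩
      have hm : j.comp (psi (algebraMap A S) T q.asIdeal) =
          MvPolynomial.eval₂Hom (algebraMap A L) T' := by
        apply MvPolynomial.ringHom_ext
        · intro a
          simp only [RingHom.comp_apply, psi, MvPolynomial.eval₂Hom_C]
          show Ideal.Quotient.mk Q.asIdeal (iR (algebraMap A S a)) = _
          simp only [iR, AlgHom.toRingHom_eq_coe, RingHom.coe_coe, AlgHom.commutes]
          rfl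
        · intro i
          simp only [RingHom.comp_apply, psi, MvPolynomial.eval₂Hom_X']
          rfl
      rw [hm]
      have hmem : MvPolynomial.eval₂Hom (algebraMap A L) T' m ∈ B := by
        induction m using MvPolynomial.induction_on with
        | C a =>
          rw [MvPolynomial.eval₂Hom_C, IsScalarTower.algebraMap_apply A P.ResidueField L]
          exact B.algebraMap_mem _
        | add p q hp hq => rw [map_add]; exact add_mem hp hq
        | mul_X p k hp =>
          rw [map_mul, MvPolynomial.eval₂Hom_X']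
          exact mul_mem hp (Algebra.subset_adjoin ⟨k, rfl⟩)
      exact ⟨⟨_, hmem⟩, rfl⟩
  haveI : Algebra.IsAlgebraic B L := ⟨fun x => (algElem_iff_isAlgebraic x).mp (hB x)⟩
  have htr : Algebra.trdeg P.ResidueField L ≤ d :=
    (Algebra.IsAlgebraic.trdeg_le_cardinalMk P.ResidueField (Set.range T')).trans
      (by simpa using Cardinal.mk_range_le_lift (f := T'))
  obtain ⟨s, hs, hs'⟩ := H8Props.FieldDim.exists_dim_trdeg P.ResidueField L
  rw [hs]
  rw [hs'] at htr
  exact_mod_cast htr

/-- All fibres have dimension `≤ d` iff all points are good. -/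
theorem forall_dim_fiber_le_iff [Algebra.FiniteType A S] (d : ℕ) :
    (∀ P : PrimeSpectrum A, ringKrullDim (P.asIdeal.Fiber S) ≤ d) ↔
      ∀ q : PrimeSpectrum S, Good (algebraMap A S) d q := by
  refine ⟨fun h q => ?_, fun h P => dim_fiber_le_of_good d fun q _ => h q⟩
  obtain ⟨T, hT⟩ := exists_fibEval_isIntegral (S := S) _ d
    (h ⟨q.asIdeal.under A, inferInstance⟩)
  exact ⟨T, algBy_of_fibEval T hT q rfl⟩

end Groth.Agent.H7Lim.Perturb

open Polynomial in
/-- The `R[X]` version. -/
theorem Groth.Agent.H7Lim.Perturb.forall_dim_fiber_evalA_iff {R S : Type u} [CommRing R] [CommRing S]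
    [Algebra R S] [Algebra.FiniteType R S] (a : S) (d : ℕ) :
    (∀ P : PrimeSpectrum R[X], letI := (Polynomial.aeval (R := R) a).toRingHom.toAlgebra
      ringKrullDim (P.asIdeal.Fiber S) ≤ d) ↔ ∀ q : PrimeSpectrum S,
        Groth.Agent.H7Lim.Perturb.Good (Groth.Agent.H7Lim.Perturb.evalA R a) d q := by
  letI := (Polynomial.aeval (R := R) a).toRingHom.toAlgebra
  haveI : IsScalarTower R R[X] S :=
    IsScalarTower.of_algebraMap_eq fun r => ((Polynomial.aeval a).commutes r).symm
  haveI : Algebra.FiniteType R[X] S := Algebra.FiniteType.of_restrictScalars_finiteType R R[X] S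
  exact Groth.Agent.H7Lim.Perturb.forall_dim_fiber_le_iff d
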