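import Groth.Agent.H7Lim.Perturb.AlgElem
import Groth.Agent.H28Top.Spectral
import Mathlib.RingTheory.Spectrum.Prime.Topology
import Mathlib.RingTheory.FiniteType

/-!
Points of `Spec S` where the residue field has transcendence degree `≤ d` over the image of a ring
map: openness in the constructible topology and stability under `a ↦ a ^ n + b`.
-/

set_option autoImplicit false
universe u

open Polynomial
open scoped Topology

namespace Groth.Agent.H7Lim.Perturb

section General

variable {A B S : Type u} [CommRing A] [CommRing B] [CommRing S] {d : ℕ}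

/-- Evaluation of polynomials over `A` at `T`, modulo `q`. -/
noncomputable def psi (φ : A →+* S) (T : Fin d → S) (q : Ideal S) :
    MvPolynomial (Fin d) A →+* S ⧸ q :=
  (Ideal.Quotient.mk q).comp (MvPolynomial.eval₂Hom φ T)

/-- Every element of `S ⧸ q` is algebraic over the subring generated by `φ` and `T`. -/
def AlgBy (φ : A →+* S) (T : Fin d → S) (q : Ideal S) [q.IsPrime] : Prop :=
  ∀ y : S ⧸ q, AlgElem (psi φ T q) y

/-- The transcendence degree of `q` over the image of `φ` is at most `d`. -/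
def Good (φ : A →+* S) (d : ℕ) (q : PrimeSpectrum S) : Prop :=
  ∃ T : Fin d → S, AlgBy φ T q.asIdeal

variable (φ : A →+* S) (T : Fin d → S) (q : Ideal S) [q.IsPrime]

theorem algElem_psi_base (a : A) : AlgElem (psi φ T q) (Ideal.Quotient.mk q (φ a)) := by
  have := algElem_map (psi φ T q) (MvPolynomial.C a)
  simpa [psi] using this

theorem algElem_psi_var (j : Fin d) : AlgElem (psi φ T q) (Ideal.Quotient.mk q (T j)) := by
  have := algElem_map (psi φ T q) (MvPolynomial.X j)
  simpa [psi] using this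

theorem psi_eq : psi φ T q =
    MvPolynomial.eval₂Hom ((Ideal.Quotient.mk q).comp φ) (fun j => Ideal.Quotient.mk q (T j)) := by
  apply MvPolynomial.ringHom_ext <;> simp [psi]

variable {φ T q}

theorem algBy_transfer (h : AlgBy φ T q) {φ' : B →+* S} {T' : Fin d → S}
    (hf : ∀ a, AlgElem (psi φ' T' q) (Ideal.Quotient.mk q (φ a)))
    (hT : ∀ j, AlgElem (psi φ' T' q) (Ideal.Quotient.mk q (T j))) : AlgBy φ' T' q :=
  fun y => (h y).trans fun P => by
    rw [psi_eq φ]
    exact forall_algElem_eval₂Hom _ _ _ hf hT P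

theorem algBy_of_gens (G : Set S) (hG : Subring.closure (Set.range φ ∪ G) = ⊤)
    (h : ∀ g ∈ G, AlgElem (psi φ T q) (Ideal.Quotient.mk q g)) : AlgBy φ T q := by
  intro y
  obtain ⟨x, rfl⟩ := Ideal.Quotient.mk_surjective y
  have hx : x ∈ Subring.closure (Set.range φ ∪ G) := hG ▸ Subring.mem_top x
  have hle : Subring.closure (Set.range φ ∪ G) ≤
      (algCl (psi φ T q)).toSubring.comap (Ideal.Quotient.mk q) :=
    Subring.closure_le.mpr (by
      rintro z (⟨a, rfl⟩ | hz)
      · exact (mem_algCl _ _).mpr (algElem_psi_base φ T q a)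
      · exact (mem_algCl _ _).mpr (h z hz))
  exact (mem_algCl _ _).mp (hle hx)

end General

section Constructible

variable {S : Type u} [CommRing S]

theorem isOpen_constr_mem (e : S) :
    IsOpen[constructibleTopology (PrimeSpectrum S)] {q | e ∈ q.asIdeal} := by
  have h : {q : PrimeSpectrum S | e ∈ q.asIdeal} = (PrimeSpectrum.basicOpen e : Set _)ᶜ := by
    ext q
    simp [PrimeSpectrum.basicOpen_eq_zeroLocus_compl, Set.singleton_subset_iff]
  rw [h]
  exact IsCompact.isOpen_constructibleTopology_of_isClosed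
    (by rw [compl_compl]; exact PrimeSpectrum.isCompact_basicOpen e)
    (PrimeSpectrum.basicOpen e).2.isClosed_compl

theorem isOpen_constr_notMem (e : S) :
    IsOpen[constructibleTopology (PrimeSpectrum S)] {q | e ∉ q.asIdeal} := by
  have h : {q : PrimeSpectrum S | e ∉ q.asIdeal} = (PrimeSpectrum.basicOpen e : Set _) := by
    ext q
    simp [PrimeSpectrum.basicOpen_eq_zeroLocus_compl, Set.singleton_subset_iff]
  rw [h]
  exact (PrimeSpectrum.isCompact_basicOpen e).isOpen_constructibleTopology_of_isOpen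
    (PrimeSpectrum.basicOpen e).2

theorem isClosed_constr_mem (e : S) :
    IsClosed[constructibleTopology (PrimeSpectrum S)] {q | e ∈ q.asIdeal} := by
  rw [← @isOpen_compl_iff _ _ (constructibleTopology _)]
  exact isOpen_constr_notMem e

theorem isClosed_constr_notMem (e : S) :
    IsClosed[constructibleTopology (PrimeSpectrum S)] {q | e ∉ q.asIdeal} := by
  rw [← @isOpen_compl_iff _ _ (constructibleTopology _)]
  simpa [Set.compl_setOf] using isOpen_constr_mem e

theorem exists_finset_cover {K : Set (PrimeSpectrum S)}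
    (hK : IsClosed[constructibleTopology (PrimeSpectrum S)] K) {ι : Type u}
    (U : ι → Set (PrimeSpectrum S))
    (hU : ∀ i, IsOpen[constructibleTopology (PrimeSpectrum S)] (U i)) (h : K ⊆ ⋃ i, U i) :
    ∃ t : Finset ι, K ⊆ ⋃ i ∈ t, U i :=
  @IsCompact.elim_finite_subcover _ (constructibleTopology _) _ ι
    (@IsClosed.isCompact _ (constructibleTopology _) _ (H28Top.compactSpace_constr _) hK) U hU h

variable {A : Type u} [CommRing A] {d : ℕ} {φ : A →+* S}

theorem algElem_psi_iff (T : Fin d → S) (q : Ideal S) [q.IsPrime] (g : S) :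
    AlgElem (psi φ T q) (Ideal.Quotient.mk q g) ↔
      ∃ (P : (MvPolynomial (Fin d) A)[X]) (i : ℕ), P.eval₂ (MvPolynomial.eval₂Hom φ T) g ∈ q ∧
        MvPolynomial.eval₂Hom φ T (P.coeff i) ∉ q := by
  rw [algElem_iff_exists]
  have hev : ∀ P : (MvPolynomial (Fin d) A)[X], P.eval₂ (psi φ T q) (Ideal.Quotient.mk q g) =
      Ideal.Quotient.mk q (P.eval₂ (MvPolynomial.eval₂Hom φ T) g) := fun P =>
    (hom_eval₂ P _ (Ideal.Quotient.mk q) g).symm
  have hne : ∀ x, psi φ T q x ≠ 0 ↔ MvPolynomial.eval₂Hom φ T x ∉ q := fun x =>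
    not_congr Ideal.Quotient.eq_zero_iff_mem
  constructor
  · rintro ⟨P, h0, i, hi⟩
    rw [hev, Ideal.Quotient.eq_zero_iff_mem] at h0
    exact ⟨P, i, h0, (hne _).mp hi⟩
  · rintro ⟨P, i, h0, hi⟩
    exact ⟨P, (hev P).trans (Ideal.Quotient.eq_zero_iff_mem.mpr h0), i, (hne _).mpr hi⟩

/-- If `q` is algebraic over `T`, so are all points of a constructibly open neighbourhood. -/
theorem exists_nhd_algBy (G : Finset S) (hG : Subring.closure (Set.range φ ∪ G) = ⊤)
    (T : Fin d → S) (q : PrimeSpectrum S) (h : AlgBy φ T q.asIdeal) :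
    ∃ U, IsOpen[constructibleTopology (PrimeSpectrum S)] U ∧ q ∈ U ∧
      ∀ q' : PrimeSpectrum S, q' ∈ U → AlgBy φ T q'.asIdeal := by
  letI := constructibleTopology (PrimeSpectrum S)
  choose P i hP hi using fun g : G => (algElem_psi_iff T q.asIdeal g.1).mp (h _)
  refine ⟨⋂ g : G, ({q' | (P g).eval₂ (MvPolynomial.eval₂Hom φ T) g.1 ∈ q'.asIdeal} ∩
    {q' | MvPolynomial.eval₂Hom φ T ((P g).coeff (i g)) ∉ q'.asIdeal}),
    isOpen_iInter_of_finite fun g => IsOpen.inter (isOpen_constr_mem _) (isOpen_constr_notMem _),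
    Set.mem_iInter.mpr fun g => ⟨hP g, hi g⟩, fun q' hq' => algBy_of_gens _ hG fun g hg => ?_⟩
  exact (algElem_psi_iff T q'.asIdeal g).mpr
    ⟨P ⟨g, hg⟩, i ⟨g, hg⟩, Set.mem_iInter.mp hq' ⟨g, hg⟩⟩

theorem isOpen_good (G : Finset S) (hG : Subring.closure (Set.range φ ∪ G) = ⊤) :
    IsOpen[constructibleTopology (PrimeSpectrum S)] {q | Good φ d q} := by
  rw [@isOpen_iff_forall_mem_open _ (constructibleTopology _)]
  rintro q ⟨T, hT⟩
  obtain ⟨U, hU, hqU, hU'⟩ := exists_nhd_algBy G hG T q hT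
  exact ⟨U, fun q' hq' => ⟨T, hU' q' hq'⟩, hU, hqU⟩

end Constructible

section Perturb

variable {R S : Type u} [CommRing R] [CommRing S] [Algebra R S] {d : ℕ}

/-- The map `R[X] → S`, `X ↦ a`. -/
noncomputable abbrev evalA (R : Type u) {S : Type u} [CommRing R] [CommRing S] [Algebra R S]
    (a : S) : R[X] →+* S :=
  (Polynomial.aeval (R := R) a).toRingHom

theorem exists_finset_gens [Algebra.FiniteType R S] :
    ∃ G : Finset S, ∀ {A : Type u} [CommRing A] (φ : A →+* S),
      (∀ r, algebraMap R S r ∈ φ.range) → Subring.closure (Set.range φ ∪ G) = ⊤ := by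
  obtain ⟨G, hG⟩ := ‹Algebra.FiniteType R S›.out
  refine ⟨G, fun {A} _ φ hφ => eq_top_iff.mpr fun x _ => ?_⟩
  have hx : x ∈ (Algebra.adjoin R (G : Set S)).toSubring := by simp [hG]
  rw [Algebra.adjoin_eq_ring_closure] at hx
  refine Subring.closure_mono (Set.union_subset_union_left _ ?_) hx
  rintro _ ⟨r, rfl⟩
  exact hφ r

theorem algebraMap_mem_range_evalA (a : S) (r : R) : algebraMap R S r ∈ (evalA R a).range :=
  ⟨C r, by simp⟩

variable (a b : S)

/-- Evaluation at `T` and then at `a`. -/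
noncomputable abbrev evalTA (T : Fin d → S) (a : S) : (MvPolynomial (Fin d) R)[X] →+* S :=
  eval₂RingHom (MvPolynomial.eval₂Hom (algebraMap R S) T) a

theorem exists_rel (T : Fin d → S) (q : Ideal S) [q.IsPrime] (h : AlgBy (evalA R a) T q) :
    ∃ (P : (MvPolynomial (Fin d) R)[X][X]) (i : ℕ),
      P.eval₂ (evalTA T a) b ∈ q ∧ evalTA T a (P.coeff i) ∉ q := by
  let κ : MvPolynomial (Fin d) R[X] →+* (MvPolynomial (Fin d) R)[X] :=
    MvPolynomial.eval₂Hom (mapRingHom MvPolynomial.C) fun j => C (MvPolynomial.X j)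
  have hκ : (evalTA T a).comp κ = MvPolynomial.eval₂Hom (evalA R a) T := by
    apply MvPolynomial.ringHom_ext
    · intro p
      have : (evalTA (R := R) T a).comp (mapRingHom MvPolynomial.C) = evalA R a := by
        ext x <;> simp [evalA]
      simpa [κ] using RingHom.congr_fun this p
    · intro j; simp [κ]
  obtain ⟨P, i, hP, hi⟩ := (algElem_psi_iff T q b).mp (h _)
  refine ⟨P.map κ, i, ?_, ?_⟩
  · rwa [eval₂_map, hκ]
  · rw [coeff_map, ← RingHom.comp_apply, hκ]
    exact hi

/-- The pointwise perturbation statement. -/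
theorem algBy_pow_add (T : Fin d → S) (q : Ideal S) [q.IsPrime] (h : AlgBy (evalA R a) T q)
    (P : (MvPolynomial (Fin d) R)[X][X]) (i : ℕ) (hP : P.eval₂ (evalTA T a) b ∈ q)
    (hi : evalTA T a (P.coeff i) ∉ q) (n : ℕ) (hn : ∀ j, (P.coeff j).natDegree < n) :
    AlgBy (evalA R (a ^ n + b)) T q := by
  set c := a ^ n + b with hc
  let mk := Ideal.Quotient.mk q
  let h0 := mk.comp (MvPolynomial.eval₂Hom (algebraMap R S) T)
  have e0 : ∀ x, mk.comp (evalTA T x) = eval₂RingHom h0 (mk x) := fun x => by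
    refine Polynomial.ringHom_ext (fun p => ?_) ?_ <;>
      simp [h0, MvPolynomial.eval₂_comp_left, Function.comp_def]
  have hbase : ∀ p, AlgElem (psi (evalA R c) T q) (h0 p) := fun p => by
    have := forall_algElem_eval₂Hom (psi (evalA R c) T q) (mk.comp (algebraMap R S))
      (fun j => mk (T j)) (fun r => (congrArg (fun z => AlgElem _ (mk z)) (aeval_C (R := R) c r)).mp (algElem_psi_base (evalA R c) T q (C r)))
      (algElem_psi_var _ _ _) p
    convert this using 1
    exact (MvPolynomial.eval₂_comp_left mk (algebraMap R S) T p)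
  have ha : AlgElem (psi (evalA R c) T q) (mk a) := by
    have h1 := algElem_of_pow_add h0 (mk a) (mk b) P
      (by rw [← e0, ← hom_eval₂]; exact Ideal.Quotient.eq_zero_iff_mem.mpr hP) i
      (by
        rw [← coe_eval₂RingHom, ← e0, RingHom.comp_apply, ne_eq, Ideal.Quotient.eq_zero_iff_mem]
        exact hi) n hn
    refine h1.trans fun Q => ?_
    refine forall_algElem_eval₂RingHom _ h0 _ hbase ?_ Q
    simpa [mk, hc] using algElem_psi_base (evalA R c) T q X
  refine algBy_transfer h (fun p => ?_) (algElem_psi_var _ _ _)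
  have e : mk (evalA R a p) = eval₂RingHom (mk.comp (algebraMap R S)) (mk a) p := by
    rw [coe_eval₂RingHom, ← hom_eval₂]
    rfl
  rw [e]
  exact forall_algElem_eval₂RingHom _ _ _
    (fun r => (congrArg (fun z => AlgElem _ (mk z)) (aeval_C (R := R) c r)).mp (algElem_psi_base (evalA R c) T q (C r))) ha p

variable [Algebra.FiniteType R S]

theorem exists_uniform (K : Set (PrimeSpectrum S))
    (hK : IsClosed[constructibleTopology (PrimeSpectrum S)] K)
    (h : ∀ q ∈ K, Good (evalA R a) d q) :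
    ∃ n₀ : ℕ, ∀ n ≥ n₀, ∀ q ∈ K, Good (evalA R (a ^ n + b)) d q := by
  classical
  obtain ⟨G, hG⟩ := exists_finset_gens (R := R) (S := S)
  let ι := (Fin d → S) × (MvPolynomial (Fin d) R)[X][X] × ℕ
  let U : ι → Set (PrimeSpectrum S) := fun s =>
    ⋃₀ {V | IsOpen[constructibleTopology (PrimeSpectrum S)] V ∧
      ∀ q' ∈ V, AlgBy (evalA R a) s.1 q'.asIdeal} ∩
    ({q' | s.2.1.eval₂ (evalTA s.1 a) b ∈ q'.asIdeal} ∩
      {q' | evalTA s.1 a (s.2.1.coeff s.2.2) ∉ q'.asIdeal})
  obtain ⟨t, ht⟩ := exists_finset_cover hK U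
    (fun s => @IsOpen.inter _ (constructibleTopology _) _ _
      (@isOpen_sUnion _ (constructibleTopology _) _ fun V hV => hV.1)
      (@IsOpen.inter _ (constructibleTopology _) _ _ (isOpen_constr_mem _) (isOpen_constr_notMem _)))
    (fun q hq => by
      obtain ⟨T, hT⟩ := h q hq
      obtain ⟨P, i, hP, hi⟩ := exists_rel a b T q.asIdeal hT
      obtain ⟨V, hV, hqV, hV'⟩ := exists_nhd_algBy G (hG _ (algebraMap_mem_range_evalA a)) T q hT
      exact Set.mem_iUnion.mpr ⟨(T, P, i), ⟨V, ⟨hV, hV'⟩, hqV⟩, hP, hi⟩)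
  refine ⟨t.sup (fun s => s.2.1.support.sup fun j => (s.2.1.coeff j).natDegree) + 1,
    fun n hn q hq => ?_⟩
  obtain ⟨s, hs, ⟨V, ⟨-, hV'⟩, hqV⟩, hP, hi⟩ := Set.mem_iUnion₂.mp (ht hq)
  refine ⟨s.1, algBy_pow_add a b s.1 _ (hV' q hqV) s.2.1 s.2.2 hP hi n fun j => ?_⟩
  by_cases hj : j ∈ s.2.1.support
  · have h1 := Finset.le_sup (f := fun j => (s.2.1.coeff j).natDegree) hj
    have h2 := Finset.le_sup
      (f := fun s : ι => s.2.1.support.sup fun j => (s.2.1.coeff j).natDegree) hs
    omega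
  · simp only [Polynomial.notMem_support_iff.mp hj, natDegree_zero]
    omega

end Perturb

end Groth.Agent.H7Lim.Perturb
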