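import Groth.Agent.H7Lim.Perturb.Fibre
import Mathlib.RingTheory.RingHom.QuasiFinite
import Mathlib.RingTheory.Jacobson.Artinian

/-!
Weak relative Noether normalization: if all fibres of `R → S` have dimension `≤ d`, some
`R[t₁, …, t_d] → S` is quasi-finite.
-/

set_option autoImplicit false
universe u

open Polynomial
open scoped Topology

namespace Groth.Agent.H7Lim.Perturb

section

variable {R S : Type u} [CommRing R] [CommRing S] [Algebra R S] {d : ℕ}

/-- `a` works on the points over `V(I)`. -/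
def WorksOn (d : ℕ) (a : S) (I : Ideal R) : Prop :=
  ∀ q : PrimeSpectrum S, I ≤ q.asIdeal.under R → Good (evalA R a) d q

theorem isOpen_constr_not_le (I : Ideal R) :
    IsOpen[constructibleTopology (PrimeSpectrum S)] {q | ¬ I ≤ q.asIdeal.under R} := by
  rw [@isOpen_iff_forall_mem_open _ (constructibleTopology _)]
  intro q hq
  obtain ⟨r, hrI, hr⟩ := SetLike.not_le_iff_exists.mp hq
  exact ⟨{q | algebraMap R S r ∉ q.asIdeal}, fun q' hq' hle => hq' (hle hrI),
    isOpen_constr_notMem _, hr⟩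

theorem algBy_evalA_of_algBy (T : Fin (d + 1) → S) (q : Ideal S) [q.IsPrime]
    (h : AlgBy (algebraMap R S) T q) : AlgBy (evalA R (T 0)) (fun j => T j.succ) q := by
  intro y
  refine (h y).trans fun b => ?_
  rw [psi_eq (algebraMap R S)]
  refine forall_algElem_eval₂Hom _ _ _ (fun r => ?_) (fun j => ?_) b
  · simpa [evalA] using
      algElem_psi_base (evalA R (T 0)) (fun j => T j.succ) q (C r)
  · refine Fin.cases ?_ (fun i => ?_) j
    · simpa [evalA] using algElem_psi_base (evalA R (T 0)) (fun j => T j.succ) q X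
    · exact algElem_psi_var (evalA R (T 0)) (fun j => T j.succ) q i

theorem mk_evalA_eq (q : Ideal S) (a : S) (p : R[X]) :
    Ideal.Quotient.mk q (evalA R a p) =
      eval₂RingHom ((Ideal.Quotient.mk q).comp (algebraMap R S)) (Ideal.Quotient.mk q a) p := by
  rw [coe_eval₂RingHom, ← hom_eval₂]
  rfl

theorem good_congr {a a' : S} {q : PrimeSpectrum S}
    (ha : ∀ T : Fin d → S, AlgElem (psi (evalA R a') T q.asIdeal) (Ideal.Quotient.mk q.asIdeal a))
    (hg : Good (evalA R a) d q) : Good (evalA R a') d q := by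
  obtain ⟨T, hT⟩ := hg
  refine ⟨T, algBy_transfer hT (fun p => ?_) (algElem_psi_var _ _ _)⟩
  rw [mk_evalA_eq]
  exact forall_algElem_eval₂RingHom _ _ _ (fun r => by
    simpa [evalA] using algElem_psi_base (evalA R a') T q.asIdeal (C r)) (ha T) p

variable [Algebra.FiniteType R S]

theorem exists_good_elem
    (h : ∀ P : PrimeSpectrum R, ringKrullDim (P.asIdeal.Fiber S) ≤ (d + 1 : ℕ)) :
    ∃ a : S, ∀ q : PrimeSpectrum S, Good (evalA R a) d q := by
  classical
  obtain ⟨G, hG⟩ := exists_finset_gens (R := R) (S := S)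
  have hopen : ∀ a : S, IsOpen[constructibleTopology (PrimeSpectrum S)]
      {q | Good (evalA R a) d q} := fun a => isOpen_good G (hG _ (algebraMap_mem_range_evalA a))
  suffices h0 : ∃ a : S, WorksOn d a (⊥ : Ideal R) by
    obtain ⟨a, ha⟩ := h0
    exact ⟨a, fun q => ha q bot_le⟩
  by_contra hbot
  have hchainbd : ∀ c ⊆ {I : Ideal R | ∀ a : S, ¬ WorksOn d a I}, IsChain (· ≤ ·) c → ∀ I₀ ∈ c,
      ∀ a : S, ¬ WorksOn d a (sSup c) := by
    intro c hc hchain I₀ hI₀ a ha
    obtain ⟨t, ht⟩ := exists_finset_cover (K := Set.univ)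
      (@isClosed_univ _ (constructibleTopology _))
      (fun J : c => {q : PrimeSpectrum S | ¬ J.1 ≤ q.asIdeal.under R} ∪ {q | Good (evalA R a) d q})
      (fun J => @IsOpen.union _ _ _ (constructibleTopology _) (isOpen_constr_not_le J.1) (hopen a))
      (fun q _ => by
        by_cases hle : sSup c ≤ q.asIdeal.under R
        · exact Set.mem_iUnion.mpr ⟨⟨I₀, hI₀⟩, Or.inr (ha q hle)⟩
        · obtain ⟨J, hJ, hJq⟩ : ∃ J ∈ c, ¬ J ≤ q.asIdeal.under R := by
            by_contra! hall
            exact hle (sSup_le hall)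
          exact Set.mem_iUnion.mpr ⟨⟨J, hJ⟩, Or.inl hJq⟩)
    obtain ⟨M, hMc, hM⟩ : ∃ M ∈ c, ∀ J ∈ t, J.1 ≤ M := by
      haveI : Nonempty c := ⟨⟨I₀, hI₀⟩⟩
      haveI : IsDirected c (fun x y => x.1 ≤ y.1) := ⟨fun x y => by
        rcases hchain.total x.2 y.2 with hxy | hxy
        · exact ⟨y, hxy, le_rfl⟩
        · exact ⟨x, le_rfl, hxy⟩⟩
      haveI : IsTrans c (fun x y => x.1 ≤ y.1) := ⟨fun x y z => le_trans⟩
      obtain ⟨M, hM⟩ := Directed.finset_le (r := fun x y : c => x.1 ≤ y.1) (f := id)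
        (fun x y => directed_of (fun x y : c => x.1 ≤ y.1) x y) t
      exact ⟨M.1, M.2, hM⟩
    refine hc hMc a fun q hq => ?_
    obtain ⟨J, hJt, hJ⟩ := Set.mem_iUnion₂.mp (ht (Set.mem_univ q))
    exact hJ.resolve_left (not_not.mpr ((hM J hJt).trans hq))
  obtain ⟨I, -, hI⟩ := zorn_le_nonempty₀ {I : Ideal R | ∀ a : S, ¬ WorksOn d a I}
    (fun c hc hchain I₀ hI₀ => ⟨sSup c, hchainbd c hc hchain I₀ hI₀, fun J hJ => le_sSup hJ⟩) ⊥
    (fun a ha => hbot ⟨a, ha⟩)
  have hIbad : ∀ a : S, ¬ WorksOn d a I := hI.prop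
  have hItop : I ≠ ⊤ := fun e => hIbad 0 fun q hq =>
    absurd (eq_top_iff.mpr (e ▸ hq)) (Ideal.IsPrime.ne_top inferInstance)
  obtain ⟨p, hp⟩ := Ideal.nonempty_minimalPrimes hItop
  haveI hpp : p.IsPrime := hp.1.1
  obtain ⟨T, hT⟩ := exists_fibEval_isIntegral (S := S) p (d + 1) (h ⟨p, hpp⟩)
  let a := T 0
  have hover : ∀ q : PrimeSpectrum S, q.asIdeal.under R = p → Good (evalA R a) d q := fun q hq =>
    ⟨fun j => T j.succ, algBy_evalA_of_algBy T q.asIdeal (algBy_of_fibEval T hT q hq)⟩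
  -- spread to a basic open
  obtain ⟨t, ht⟩ := exists_finset_cover (K := {q : PrimeSpectrum S | I ≤ q.asIdeal.under R})
    (by
      rw [← @isOpen_compl_iff _ _ (constructibleTopology _)]
      exact isOpen_constr_not_le I)
    (fun f : {f : R // f ∉ p} =>
      {q : PrimeSpectrum S | algebraMap R S f.1 ∈ q.asIdeal} ∪ {q | Good (evalA R a) d q})
    (fun f => @IsOpen.union _ _ _ (constructibleTopology _) (isOpen_constr_mem _) (hopen a))
    (fun q hq => by
      by_cases hle : q.asIdeal.under R ≤ p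
      · exact Set.mem_iUnion.mpr ⟨⟨1, fun h1 => hpp.ne_top (p.eq_top_iff_one.mpr h1)⟩,
          Or.inr (hover q (le_antisymm hle (hp.2 ⟨inferInstance, hq⟩ hle)))⟩
      · obtain ⟨f, hfq, hfp⟩ := SetLike.not_le_iff_exists.mp hle
        exact Set.mem_iUnion.mpr ⟨⟨f, hfp⟩, Or.inl hfq⟩)
  let f : R := ∏ g ∈ t, g.1
  have hfp : f ∉ p := fun hf => by
    obtain ⟨g, -, hg⟩ := Ideal.IsPrime.prod_mem_iff.mp hf
    exact g.2 hg
  have hgood : ∀ q : PrimeSpectrum S, I ≤ q.asIdeal.under R → algebraMap R S f ∉ q.asIdeal →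
      Good (evalA R (algebraMap R S f * a)) d q := by
    intro q hq hf
    obtain ⟨g, hgt, hg⟩ := Set.mem_iUnion₂.mp (ht hq)
    have hga : Good (evalA R a) d q := hg.resolve_left fun hgq => hf (by
      show algebraMap R S (∏ g ∈ t, g.1) ∈ q.asIdeal
      rw [← Finset.mul_prod_erase t _ hgt, map_mul]
      exact q.asIdeal.mul_mem_right _ hgq)
    refine good_congr (fun T => ?_) hga
    refine (algElem_psi_iff T q.asIdeal a).mpr
      ⟨C (MvPolynomial.C (C f)) * X - C (MvPolynomial.C X), 1, ?_, ?_⟩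
    · simp [evalA]
    · simpa [evalA, coeff_C_ne_zero] using hf
  -- the ideal `I + (f)`
  have hlt : I < I ⊔ Ideal.span {f} := by
    refine lt_of_le_of_ne le_sup_left fun e => hfp (hp.1.2 ?_)
    rw [e]
    exact Ideal.mem_sup_right (Ideal.mem_span_singleton_self f)
  obtain ⟨b, hb⟩ : ∃ b : S, WorksOn d b (I ⊔ Ideal.span {f}) := by
    by_contra! hall
    exact hlt.not_ge (hI.le_of_ge hall hlt.le)
  obtain ⟨n₀, hn₀⟩ := exists_uniform (algebraMap R S f * a) b
    {q : PrimeSpectrum S | I ≤ q.asIdeal.under R ∧ algebraMap R S f ∉ q.asIdeal}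
    (@IsClosed.inter _ _ _ (constructibleTopology _)
      (by
        rw [← @isOpen_compl_iff _ _ (constructibleTopology _)]
        exact isOpen_constr_not_le I)
      (isClosed_constr_notMem _))
    (fun q hq => hgood q hq.1 hq.2)
  refine hIbad ((algebraMap R S f * a) ^ (n₀ + 1) + b) fun q hq => ?_
  by_cases hf : algebraMap R S f ∈ q.asIdeal
  · refine good_congr (fun T => ?_)
      (hb q (sup_le hq ((Ideal.span_singleton_le_iff_mem _).mpr hf)))
    have hmk : Ideal.Quotient.mk q.asIdeal b =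
        Ideal.Quotient.mk q.asIdeal ((algebraMap R S f * a) ^ (n₀ + 1) + b) := by
      rw [map_add, map_pow, map_mul, Ideal.Quotient.eq_zero_iff_mem.mpr hf, zero_mul,
        zero_pow (Nat.succ_ne_zero _), zero_add]
    rw [hmk]
    simpa [evalA] using algElem_psi_base (evalA R ((algebraMap R S f * a) ^ (n₀ + 1) + b)) T q.asIdeal X
  · exact hn₀ _ (Nat.le_succ _) q ⟨hq, hf⟩

end

theorem exists_quasiFinite (d : ℕ) : ∀ {R S : Type u} [CommRing R] [CommRing S] [Algebra R S]
    [Algebra.FiniteType R S],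
    (∀ P : PrimeSpectrum R, ringKrullDim (P.asIdeal.Fiber S) ≤ d) →
      ∃ φ : MvPolynomial (Fin d) R →+* S,
        φ.comp MvPolynomial.C = algebraMap R S ∧ φ.QuasiFinite := by
  induction d with
  | zero =>
    intro R S _ _ _ _ h
    have hqf : (algebraMap R S).QuasiFinite := by
      rw [RingHom.quasiFinite_algebraMap]
      refine ⟨fun P hP => ?_⟩
      have h0 := h ⟨P, hP⟩
      rw [Module.finite_iff_krullDimLE_zero, Ring.krullDimLE_iff]
      simpa using h0
    let ε : MvPolynomial (Fin 0) R →+* R := MvPolynomial.eval₂Hom (RingHom.id R) Fin.elim0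
    refine ⟨(algebraMap R S).comp ε, by ext r; simp [ε], hqf.comp (.of_finite ?_)⟩
    exact RingHom.Finite.of_surjective ε fun r => ⟨MvPolynomial.C r, by simp [ε]⟩
  | succ d ih =>
    intro R S _ _ _ _ h
    obtain ⟨a, ha⟩ := exists_good_elem h
    letI := (Polynomial.aeval (R := R) a).toRingHom.toAlgebra
    haveI : IsScalarTower R R[X] S :=
      IsScalarTower.of_algebraMap_eq fun r => ((Polynomial.aeval a).commutes r).symm
    haveI : Algebra.FiniteType R[X] S := Algebra.FiniteType.of_restrictScalars_finiteType R R[X] S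
    obtain ⟨φ, hφ, hqf⟩ := ih (R := R[X]) (S := S) ((forall_dim_fiber_le_iff d).mpr ha)
    let e : MvPolynomial (Fin (d + 1)) R →+* MvPolynomial (Fin d) R[X] :=
      MvPolynomial.eval₂Hom (MvPolynomial.C.comp C)
        (Fin.cons (MvPolynomial.C X) fun j => MvPolynomial.X j)
    have hsurj : Function.Surjective e := by
      intro x
      induction x using MvPolynomial.induction_on with
      | C p =>
        induction p using Polynomial.induction_on' with
        | add p q hp hq =>
          obtain ⟨u, hu⟩ := hp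
          obtain ⟨v, hv⟩ := hq
          exact ⟨u + v, by rw [map_add, map_add, hu, hv]⟩
        | monomial k r =>
          refine ⟨MvPolynomial.C r * MvPolynomial.X 0 ^ k, ?_⟩
          simp [e, ← C_mul_X_pow_eq_monomial]
      | add p q hp hq =>
        obtain ⟨u, hu⟩ := hp
        obtain ⟨v, hv⟩ := hq
        exact ⟨u + v, by rw [map_add, hu, hv]⟩
      | mul_X p j hp =>
        obtain ⟨u, hu⟩ := hp
        exact ⟨u * MvPolynomial.X j.succ, by rw [map_mul, hu]; simp [e]⟩
    refine ⟨φ.comp e, ?_, hqf.comp (.of_finite (RingHom.Finite.of_surjective e hsurj))⟩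
    ext r
    have := RingHom.congr_fun hφ (C r)
    simp only [RingHom.comp_apply] at this
    simp only [RingHom.comp_apply, e, MvPolynomial.eval₂Hom_C]
    rw [this]
    exact (IsScalarTower.algebraMap_apply R R[X] S r).symm

end Groth.Agent.H7Lim.Perturb
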